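import Groth.Agent.Lib.Cyc.LocalDim
import Groth.Agent.Lib.Cyc.DimFun
import Groth.Agent.Lib.GenFinite.Basic
import Groth.Agent.Lib.Flat55.DimSums

/-!
# Dimensions of irreducible schemes locally of finite type over a field
-/

set_option autoImplicit false
universe u

open CategoryTheory AlgebraicGeometry TopologicalSpace

namespace Groth.Agent.Lib.AffineCompl.Dim

open Groth.Agent.Lib.Cyc Groth.Agent.Lib.GenFinite.Basic

variable {k : Type u} [Field k] {X : Scheme.{u}} (f : X ⟶ Spec (CommRingCat.of k))
  [LocallyOfFiniteType f] [IrreducibleSpace X]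

include f in
/-- A nonempty open has the same dimension. -/
theorem topologicalKrullDim_opens (U : X.Opens) [Nonempty U] :
    topologicalKrullDim (U : Scheme.{u}) = topologicalKrullDim X := by
  haveI : IrreducibleSpace (U : Scheme.{u}) :=
    (isIrreducible_iff_irreducibleSpace).1 ⟨Set.nonempty_coe_sort.1 ‹Nonempty U›,
      PreirreducibleSpace.isPreirreducible_univ.open_subset U.2 (Set.subset_univ _)⟩
  have h : FieldDim.fdelta (U.ι ≫ f) (genericPoint (U : Scheme.{u})) = _ := LocalDim.fdelta_ι f U _
  rw [topologicalKrullDim_eq_fdelta (U.ι ≫ f), h,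
    topologicalKrullDim_eq_fdelta f]
  congr 3
  exact genericPoint_eq_of_isOpenImmersion U.ι

include f in
/-- The local ring at a closed point has the dimension of the scheme. -/
theorem ringKrullDim_stalk_of_isClosed {x : X} (hx : IsClosed ({x} : Set X)) :
    ringKrullDim (X.presheaf.stalk x) = topologicalKrullDim X := by
  rw [DimFun.ringKrullDim_stalk (FieldDim.isDimFun_fdelta f) x, FieldDim.fdelta_of_isClosed f x hx,
    sub_zero, topologicalKrullDim_eq_fdelta f]

omit [IrreducibleSpace X] in
/-- A finite surjective morphism preserves the dimension. -/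
theorem topologicalKrullDim_of_finite_surjective {Y : Scheme.{u}} (g : X ⟶ Y) [IsFinite g]
    (hg : Function.Surjective g) : topologicalKrullDim X = topologicalKrullDim Y := by
  rw [Flat55.DimSums.dim_eq_of_isFinite g, Set.range_eq_univ.2 hg]
  exact IsHomeomorph.topologicalKrullDim_eq _ (Homeomorph.Set.univ Y).isHomeomorph

end Groth.Agent.Lib.AffineCompl.Dim
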