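import Groth.Prelude
import Groth.Agent.Lib.AffineCompl.Dim
import Groth.Agent.Lib.DepthTwist.Zero
import Groth.Agent.Lib.Normalization.Basic
import Groth.Agent.Lib.Normalization.InFieldVariety
import Groth.Agent.H80.PuncturedExt
import Groth.Agent.Lib.Curves.Positivity
import Groth.Agent.Lib.Ample.Pullback

/-!
# The complement of the generating locus of a section of an ample module is connected

For an integral proper scheme of dimension at least two over a field.
-/

set_option autoImplicit false
set_option linter.style.haveILetI false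
universe u

open CategoryTheory CategoryTheory.Limits AlgebraicGeometry TopologicalSpace

noncomputable section

namespace Groth.Agent.Lib.AffineCompl.Basic

open Groth.Agent.Lib

variable {X : Scheme.{u}}

/-- A section generating somewhere is a monomorphism. -/
theorem mono_of_genLocus_nonempty [IsIntegral X] {L : X.Modules} (hL : PicF.IsInvertible L)
    (s : Coh.structureModule X ⟶ L) (h : (CohB1.genLocus L s : Set X).Nonempty) : Mono s := by
  refine Curves.Positivity.mono_of_ne_zero (_root_.PicLoc.isInvertible_structureModule X) hL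
    fun hs => ?_
  obtain ⟨x, hx⟩ := h
  obtain ⟨F, hxF, -⟩ := H95.ZeroSch.exists_frame hL (show x ∈ (⊤ : X.Opens) from trivial)
  have h0 : Ample.GenLocus.sv s F.V.1 = (0 : Γ(X, F.V.1)) • F.e := by
    rw [zero_smul, Ample.GenLocus.sv_eq_val, hs]
    rfl
  have hxb : x ∈ X.basicOpen (0 : Γ(X, F.V.1)) :=
    (Ample.GenLocus.genLocus_inf_eq F.he s h0).le ⟨hx, hxF⟩
  rw [Scheme.basicOpen_zero] at hxb
  exact hxb

/-- A regular section generates somewhere. -/
theorem genLocus_nonempty [IsIntegral X] {L : X.Modules} (hL : PicF.IsInvertible L)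
    (s : Coh.structureModule X ⟶ L) [Mono s] : (CohB1.genLocus L s : Set X).Nonempty := by
  obtain ⟨hD, -, hsupp⟩ := DepthTwist.Zero.divisor_spec hL s
  obtain ⟨U, hηU, a, ha, hI⟩ := hD (genericPoint X)
  haveI : Nonempty U.1 := ⟨⟨_, hηU⟩⟩
  have hb : genericPoint X ∈ X.basicOpen a := by
    refine ((genericPoint_spec X).mem_open_set_iff (X.basicOpen a).isOpen).mpr ?_
    rw [Set.univ_inter]
    by_contra h
    rw [Set.not_nonempty_iff_eq_empty] at h
    exact nonZeroDivisors.ne_zero ha
      ((AlgebraicGeometry.basicOpen_eq_bot_iff a).1 (Opens.ext h))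
  refine ⟨genericPoint X, by_contra fun hg => ?_⟩
  rw [← Set.mem_compl_iff, ← hsupp, SetLike.mem_coe,
    Scheme.IdealSheafData.mem_support_iff_of_mem hηU, Scheme.mem_zeroLocus_iff] at hg
  exact hg a (hI ▸ _root_.Ideal.mem_span_singleton_self a) hb

variable (k : Type u) [Field k] (f : X ⟶ Spec (CommRingCat.of k)) [IsProper f]

include f in
/-- A regular section of an ample module on a normal variety of dimension at least two. -/
theorem isConnected_compl_genLocus_normal [IsIntegral X] (hN : Pi1.IsNormalScheme X)
    (hdim : (2 : WithBot ℕ∞) ≤ topologicalKrullDim X) {L : X.Modules} (hL : CohB1.IsAmple L)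
    (s : Coh.structureModule X ⟶ L) [Mono s] :
    _root_.IsConnected ((CohB1.genLocus L s : Set X)ᶜ) := by
  letI : X.Over (Spec (CommRingCat.of k)) := ⟨f⟩
  haveI : IsProper (X ↘ Spec (CommRingCat.of k)) := ‹IsProper f›
  haveI := DepthTwist.Zero.connectedSpace_zeroScheme k hL s fun x hx => by
    haveI : IsLocallyNoetherian X := LocallyOfFiniteType.isLocallyNoetherian f
    haveI := (hN x).1
    haveI := (hN x).2
    exact H80.PuncturedExt.two_le_depth (by rwa [Dim.ringKrullDim_stalk_of_isClosed f hx])
  rw [← (DepthTwist.Zero.divisor_spec hL.1 s).2.2, ← Scheme.IdealSheafData.range_subschemeι]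
  exact isConnected_range (PicF2.zeroScheme L s).subschemeι.continuous

include f in
/-- A section of an ample module on an integral proper scheme of dimension at least two. -/
theorem isConnected_compl_genLocus [IsIntegral X]
    (hdim : (2 : WithBot ℕ∞) ≤ topologicalKrullDim X) {L : X.Modules} (hL : CohB1.IsAmple L)
    (s : Coh.structureModule X ⟶ L) (hs : (CohB1.genLocus L s : Set X).Nonempty) :
    _root_.IsConnected ((CohB1.genLocus L s : Set X)ᶜ) := by
  letI : X.Over (Spec (CommRingCat.of k)) := ⟨f⟩
  haveI : LocallyOfFiniteType (X ↘ Spec (CommRingCat.of k)) :=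
    (inferInstance : LocallyOfFiniteType f)
  haveI : QuasiCompact (X.fromSpecStalk (genericPoint X)) := ⟨fun U _ _ => by
    haveI : Subsingleton (Spec (X.presheaf.stalk (genericPoint X))) :=
      inferInstanceAs (Subsingleton (PrimeSpectrum X.functionField))
    exact (Set.subsingleton_of_subsingleton
      (s := X.fromSpecStalk (genericPoint X) ⁻¹' U)).isCompact⟩
  let ν := Curv2.normalizationι X
  haveI : IsFinite ν := Normalization.InFieldVariety.isFinite_normalizationι k X
  have hsurj : Function.Surjective ν := Normalization.Basic.surjective_normalizationι X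
  have hN : Pi1.IsNormalScheme (Curv2.normalization X) :=
    Normalization.InField.isNormalScheme (RingHom.id X.functionField)
      (X.fromSpecStalk (genericPoint X))
      (by show _ = Spec.map (𝟙 X.functionField) ≫ _; rw [Spec.map_id, Category.id_comp])
  let e := (_root_.PicLoc.pullbackStructureIso ν).symm
  let s' := e.hom ≫ (TensorMod.Pullback.pb ν).map s
  have hgen : (CohB1.genLocus _ s' : Set ↥(Curv2.normalization X)) =
      ν ⁻¹' (CohB1.genLocus L s : Set X) := by
    rw [Ample.GenLocus.genLocus_pullback ν hL.1 s e]
    rfl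
  have hL' := Ample.Pullback.isAmple_pullback ν (Ample.Pullback.isQuasiAffine_of_isAffineHom ν) hL
  haveI : Mono s' := mono_of_genLocus_nonempty hL'.1 s'
    (by rw [hgen]; exact hs.preimage hsurj)
  have h := isConnected_compl_genLocus_normal k (ν ≫ f) hN
    (by rwa [Dim.topologicalKrullDim_of_finite_surjective ν hsurj]) hL' s'
  rw [hgen, ← Set.preimage_compl] at h
  rw [← Set.image_preimage_eq (CohB1.genLocus L s : Set X)ᶜ hsurj]
  exact h.image _ ν.continuous.continuousOn

include f in
/-- The zero scheme of such a section is connected. -/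
theorem connectedSpace_zeroScheme [IsIntegral X]
    (hdim : (2 : WithBot ℕ∞) ≤ topologicalKrullDim X) {L : X.Modules} (hL : CohB1.IsAmple L)
    (s : Coh.structureModule X ⟶ L) [Mono s] :
    ConnectedSpace ↥(PicF2.zeroScheme L s).subscheme := by
  have hsupp := (DepthTwist.Zero.divisor_spec hL.1 s).2.2
  have h := isConnected_compl_genLocus k f hdim hL s (genLocus_nonempty hL.1 s)
  rw [← hsupp, ← Scheme.IdealSheafData.range_subschemeι, ← Set.image_univ] at h
  rw [connectedSpace_iff_univ]
  refine ⟨Set.image_nonempty.1 h.nonempty, ?_⟩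
  rw [← (PicF2.zeroScheme L s).subschemeι.isEmbedding.isInducing.isPreconnected_image]
  exact h.isPreconnected

end Groth.Agent.Lib.AffineCompl.Basic
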